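import Groth.Agent.GmPic.PicIso
import Groth.Agent.S0108
import Groth.Agent.EtLC12.MuConst
import Groth.Prelude.Def_SixF3

/-!
# Kummer theory in degree one on a scheme with divisible global units
-/

set_option autoImplicit false
set_option maxHeartbeats 1600000
set_option linter.style.haveILetI false
set_option backward.isDefEq.respectTransparency false
set_option backward.isDefEq.respectTransparency.types false

universe u

open CategoryTheory CategoryTheory.Limits AlgebraicGeometry Opposite CategoryTheory.Abelian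

noncomputable section

namespace Groth.Agent.PicTors

open Groth.Agent

variable {X : Scheme.{u}} {n : ℕ} [NeZero n]

theorem map_powMap {i : ℕ} (ξ : EtCoh.H X (EtCoh.Gm X) i) :
    Sheaf.H.map (EtCoh.powMap X n) i ξ = n • ξ := by
  have hz : Sheaf.H.map (0 : EtCoh.Gm X ⟶ EtCoh.Gm X) i ξ = 0 := by
    rw [Sheaf.H.map_apply, Abelian.Ext.mk₀_zero, Abelian.Ext.comp_zero]
  suffices h : ∀ m : ℕ, Sheaf.H.map (m • 𝟙 (EtCoh.Gm X)) i ξ = m • ξ from h n
  intro m
  induction m with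
  | zero => rw [zero_smul, zero_smul, hz]
  | succ m ih => rw [succ_nsmul, succ_nsmul, Sheaf.H.map_add_apply, ih, Sheaf.H.map_id_apply]

/-- The isomorphism induced on cohomology. -/
def hIso {F G : EtCoh.Ab X} (e : F ≅ G) (i : ℕ) : EtCoh.H X F i ≃+ EtCoh.H X G i where
  toFun := Sheaf.H.map e.hom i
  invFun := Sheaf.H.map e.inv i
  left_inv a := by rw [← Sheaf.H.map_comp_apply, e.hom_inv_id, Sheaf.H.map_id_apply]
  right_inv a := by rw [← Sheaf.H.map_comp_apply, e.inv_hom_id, Sheaf.H.map_id_apply]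
  map_add' := map_add _

/-- Global units, additively. -/
abbrev topUnits (X : Scheme.{u}) : Type (u + 1) := (EtCoh.Gm X).obj.obj (op (EtCoh.top X))

theorem nsmul_surjective_topUnits (hdiv : ∀ a : Γ(X, ⊤)ˣ, ∃ b : Γ(X, ⊤)ˣ, b ^ n = a) (a : topUnits X) :
    ∃ b : topUnits X, n • b = a := by
  obtain ⟨a⟩ := a
  let a' : Γ(X, ⊤)ˣ := Additive.toMul a
  obtain ⟨b, hb⟩ := hdiv a'
  refine ⟨ULift.up (Additive.ofMul b : Additive Γ((EtCoh.top X).left, ⊤)ˣ), ULift.ext _ _ ?_⟩
  exact congrArg Additive.ofMul hb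

variable (hu : IsUnit (n : Γ(X, ⊤))) (ζ : Γ(X, ⊤))
  (hζ : Polynomial.aeval ζ (Polynomial.cyclotomic n ℤ) = 0)
  (hdiv : ∀ a : Γ(X, ⊤)ˣ, ∃ b : Γ(X, ⊤)ˣ, b ^ n = a)

include hu hζ hdiv in
/-- Degree one cohomology with finite coefficients is the torsion of that of the multiplicative group. -/
theorem exists_h1_equiv_ker : Nonempty (EtCoh.H X (EtCoh.const X (ZMod n)) 1 ≃+
    (nsmulAddMonoidHom n : EtCoh.H X (EtCoh.Gm X) 1 →+ EtCoh.H X (EtCoh.Gm X) 1).ker) := by
  have hE : Epi (EtCoh.powMap X n) := S0108.result X n hu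
  haveI := EtLC12.MuConst.isIso_constToMu hu ζ hζ
  let T := EtSix.kummerSC X n
  have hT : T.ShortExact := EtSix.kummerShortExact hE
  let ι : EtCoh.H X (EtCoh.mu X n) 1 →+ EtCoh.H X (EtCoh.Gm X) 1 := Sheaf.H.map (EtCoh.muι X n) 1
  have hinj : Function.Injective ι := by
    rw [injective_iff_map_eq_zero]
    intro x hx
    obtain ⟨z, rfl⟩ := Ext.covariant_sequence_exact₁ _ hT x hx (rfl : 0 + 1 = 1)
    let h0 := Sheaf.H.equiv₀ (EtCoh.Gm X) (EtCore.topIsTerminal X)
    obtain ⟨b, hb⟩ := nsmul_surjective_topUnits hdiv (h0 z)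
    obtain ⟨b', rfl⟩ := h0.surjective b
    rw [← map_nsmul] at hb
    have hz : z = Sheaf.H.map (EtCoh.powMap X n) 0 b' := (h0.injective hb).symm.trans (map_powMap b').symm
    rw [hz, Sheaf.H.map_apply, Ext.comp_assoc_of_second_deg_zero]
    erw [hT.comp_extClass]
    rw [Ext.comp_zero]
  have hrange : ∀ ξ, ξ ∈ ι.range ↔ ξ ∈ (nsmulAddMonoidHom n : EtCoh.H X (EtCoh.Gm X) 1 →+ _).ker := by
    intro ξ
    rw [AddMonoidHom.mem_ker, nsmulAddMonoidHom_apply, ← map_powMap (n := n)]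
    constructor
    · rintro ⟨y, rfl⟩
      show Sheaf.H.map (EtCoh.powMap X n) 1 (Sheaf.H.map (EtCoh.muι X n) 1 y) = 0
      rw [← Sheaf.H.map_comp_apply, show EtCoh.muι X n ≫ EtCoh.powMap X n = 0 from kernel.condition _,
        Sheaf.H.map_apply, Ext.mk₀_zero, Ext.comp_zero]
    · intro hξ
      obtain ⟨y, hy⟩ := Ext.covariant_sequence_exact₂ _ hT ξ hξ
      exact ⟨y, hy⟩
  exact ⟨((hIso (asIso (EtLC12.MuConst.constToMu ζ hζ)) 1).trans (AddMonoidHom.ofInjective hinj)).trans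
    (AddEquiv.addSubgroupCongr (AddSubgroup.ext hrange))⟩

end Groth.Agent.PicTors
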