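import Groth.Agent.PicTors.Main
import Groth.Agent.PicTors.Kummer
import Groth.Agent.CurveBC.Geometry
import Mathlib.FieldTheory.IsAlgClosed.Basic

/-!
# Degree one cohomology with finite coefficients of a curve over an algebraically closed field
-/

set_option autoImplicit false
set_option maxHeartbeats 1600000
set_option linter.style.haveILetI false
set_option linter.unusedSectionVars false
set_option backward.isDefEq.respectTransparency false
set_option backward.isDefEq.respectTransparency.types false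

universe u

open CategoryTheory CategoryTheory.Limits AlgebraicGeometry

noncomputable section

namespace Groth.Agent.PicTors

open Groth.Agent Groth.Agent.H23 Groth.Agent.H23.PicMul
open scoped Groth.Agent.H23.PicMul

section Torsion

variable (X : Scheme.{u}) [PicGrp.Law X]

theorem pow_val (c : PicLoc.PicSet X) (n : ℕ) : (c ^ n).1 = c.1 ^ n := by
  induction n with
  | zero => rw [pow_zero, pow_zero, PicGrp.Law.one_eq]; rfl
  | succ n ih => rw [pow_succ, pow_succ, PicGrp.Law.mul_val, ih]; rfl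

/-- Torsion of the Picard group as torsion classes. -/
def nsmulKerEquiv (n : ℕ) : (nsmulAddMonoidHom n : Additive (PicLoc.PicSet X) →+ _).ker ≃ torsCl X n where
  toFun c := ⟨c.1.toMul.1, by
    obtain ⟨M, hM, hi⟩ := c.1.toMul.2
    refine ⟨M, hM, hi, cl_eq_iff.1 ?_⟩
    rw [cl_tensorPow, hM, ← pow_val, show c.1.toMul ^ n = 1 from congrArg Additive.toMul c.2,
      PicGrp.Law.one_eq]
    rfl⟩
  invFun c := ⟨Additive.ofMul (⟨c.1, by obtain ⟨M, h, hM, -⟩ := c.2; exact ⟨M, h, hM⟩⟩ : PicLoc.PicSet X), by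
    obtain ⟨M, h, hM, ⟨e⟩⟩ := c.2
    let q : PicLoc.PicSet X := ⟨c.1, ⟨M, h, hM⟩⟩
    show Additive.ofMul (q ^ n) = Additive.ofMul (1 : PicLoc.PicSet X)
    refine congrArg Additive.ofMul (Subtype.ext ?_)
    show (q ^ n).1 = (1 : PicLoc.PicSet X).1
    rw [pow_val, PicGrp.Law.one_eq, show q.1 = c.1 from rfl, ← h, ← cl_tensorPow]
    exact cl_eq_iff.2 ⟨e⟩⟩
  left_inv c := rfl
  right_inv c := rfl

end Torsion

variable (k : Type u) [Field k] [IsAlgClosed k] (X : Scheme.{u}) [X.Over (Spec (CommRingCat.of k))]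
  [IsIntegral X] [IsProper (X ↘ Spec (CommRingCat.of k))] [Smooth (X ↘ Spec (CommRingCat.of k))]

theorem card_torsCl (hdim : topologicalKrullDim X = 1) {n : ℕ} (hn : IsUnit (n : k)) :
    Nat.card (torsCl X n) = n ^ (2 * Curv2.genus k X) := by
  obtain ⟨J, _, _, _, _, _, hg, hc⟩ := exists_jac k X hdim
  have hn0 : 0 < n := Nat.pos_of_ne_zero (by rintro rfl; simp at hn)
  haveI := TorsPtsLib.geometricallyIntegral J
  exact (hc n hn0).trans (TorsPtsLib.card_torsPts J hg hn)

/-- The first cohomology with coefficients in `ℤ/n`. -/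
theorem nonempty_h1_equiv (hdim : topologicalKrullDim X = 1) (n : ℕ) (hn : IsUnit (n : k)) :
    Nonempty (EtCoh.H X (EtCoh.const X (ZMod n)) 1 ≃+ (Fin (2 * Curv2.genus k X) → ZMod n)) := by
  letI := PicMul.law X
  have hn0 : 0 < n := Nat.pos_of_ne_zero (by rintro rfl; simp at hn)
  haveI : NeZero n := ⟨hn0.ne'⟩
  haveI : NeZero (n : k) := ⟨hn.ne_zero⟩
  haveI : GeometricallyConnected (X ↘ Spec (CommRingCat.of k)) := geomConn k X
  have hb : Function.Bijective (X ↘ Spec (CommRingCat.of k)).appTop :=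
    CurveBC.bijective_appTop k X (CurveBC.finrank_h0_of_geometricallyConnected k X)
  let φ : k →+* Γ(X, ⊤) := (X ↘ Spec (CommRingCat.of k)).appTop.hom.comp (Scheme.ΓSpecIso (CommRingCat.of k)).inv.hom
  have hφ : Function.Bijective φ :=
    hb.comp (ConcreteCategory.bijective_of_isIso (Scheme.ΓSpecIso (CommRingCat.of k)).inv)
  have hu : IsUnit (n : Γ(X, ⊤)) := by
    have := hn.map φ
    rwa [map_natCast] at this
  obtain ⟨ζ, hζ⟩ := HasEnoughRootsOfUnity.exists_primitiveRoot k n
  have hζ' : Polynomial.aeval (φ ζ) (Polynomial.cyclotomic n ℤ) = 0 := by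
    have h := (hζ.isRoot_cyclotomic hn0)
    rw [Polynomial.IsRoot.def, ← Polynomial.map_cyclotomic n (algebraMap ℤ k), Polynomial.eval_map_algebraMap] at h
    have := Polynomial.aeval_algHom_apply φ.toIntAlgHom ζ (Polynomial.cyclotomic n ℤ)
    exact this.trans (by rw [h, map_zero])
  have hdiv : ∀ a : Γ(X, ⊤)ˣ, ∃ b : Γ(X, ⊤)ˣ, b ^ n = a := by
    intro a
    obtain ⟨c, hc⟩ := hφ.2 a.1
    obtain ⟨d, rfl⟩ := IsAlgClosed.exists_pow_nat_eq c hn0
    have hd : d ≠ 0 := by
      rintro rfl
      exact a.ne_zero (by rw [← hc, zero_pow hn0.ne', map_zero])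
    refine ⟨Units.map φ.toMonoidHom (Units.mk0 d hd), Units.ext ?_⟩
    rw [Units.val_pow_eq_pow_val]
    exact (map_pow φ d n).symm.trans hc
  obtain ⟨e⟩ := exists_h1_equiv_ker hu (φ ζ) hζ' hdiv
  obtain ⟨P⟩ := GmPic.nonempty_pic_addEquiv_H1 X
  let G := (nsmulAddMonoidHom n : EtCoh.H X (EtCoh.Gm X) 1 →+ EtCoh.H X (EtCoh.Gm X) 1).ker
  have hG : ∀ x : G, n • x = 0 := fun x => Subtype.ext x.2
  have hcard : ∀ d, d ∣ n → Nat.card {x : Multiplicative G // x ^ d = 1} = d ^ (2 * Curv2.genus k X) := by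
    intro d hd
    have hdk : IsUnit (d : k) := by
      obtain ⟨m, rfl⟩ := hd
      rw [Nat.cast_mul] at hn
      exact isUnit_of_mul_isUnit_left hn
    rw [← card_torsCl k X hdim hdk]
    refine Nat.card_congr (Equiv.trans ?_ (nsmulKerEquiv X d))
    exact
    { toFun := fun x => ⟨P.symm x.1.toAdd.1, by
        rw [AddMonoidHom.mem_ker, nsmulAddMonoidHom_apply, ← map_nsmul,
          show d • x.1.toAdd.1 = 0 from congrArg (fun y : Multiplicative G => y.toAdd.1) x.2, map_zero]⟩
      invFun := fun c => ⟨Multiplicative.ofAdd ⟨P c.1, by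
          obtain ⟨m, rfl⟩ := hd
          rw [AddMonoidHom.mem_ker, nsmulAddMonoidHom_apply, ← map_nsmul, mul_comm d m, mul_nsmul', 
            show d • c.1 = 0 from c.2, nsmul_zero, map_zero]⟩, by
          show Multiplicative.ofAdd (d • (⟨P c.1, _⟩ : G)) = Multiplicative.ofAdd 0
          refine congrArg Multiplicative.ofAdd (Subtype.ext ?_)
          show d • P c.1 = 0
          rw [← map_nsmul, show d • c.1 = 0 from c.2, map_zero]⟩
      left_inv := fun x => Subtype.ext (Subtype.ext (P.apply_symm_apply _))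
      right_inv := fun c => Subtype.ext (P.symm_apply_apply _) }
  haveI : Finite (Multiplicative G) := by
    refine Nat.finite_of_card_ne_zero ?_
    have h1 : ∀ x : Multiplicative G, x ^ n = 1 := fun x => congrArg Multiplicative.ofAdd (hG x.toAdd)
    rw [← Nat.card_congr (Equiv.subtypeUnivEquiv h1), hcard n dvd_rfl]
    exact (pow_pos hn0 _).ne'
  obtain ⟨E⟩ := TorsPtsLib.nonempty_mulEquiv_zmod_pow n hn0 _ (Multiplicative G)
    (fun x => congrArg Multiplicative.ofAdd (hG x.toAdd)) hcard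
  exact ⟨e.trans (AddEquiv.toMultiplicative.symm E)⟩

end Groth.Agent.PicTors
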