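import Groth.Agent.PicTors.RelPts
import Groth.Agent.S16754

/-!
# Extensions over which a curve gets a point and full torsion
-/

set_option autoImplicit false
set_option maxHeartbeats 1600000
set_option linter.style.haveILetI false
set_option linter.unusedSectionVars false
set_option backward.isDefEq.respectTransparency false
set_option backward.isDefEq.respectTransparency.types false

universe u

open CategoryTheory CategoryTheory.Limits AlgebraicGeometry

noncomputable section

namespace Groth.Agent.PicTors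

open Groth.Agent

theorem exists_ext_full_torsion (k : Type u) [Field k] (X : Scheme.{u}) [X.Over (Spec (CommRingCat.of k))]
    [IsProper (X ↘ Spec (CommRingCat.of k))] [Smooth (X ↘ Spec (CommRingCat.of k))]
    (hdim : topologicalKrullDim X = 1) (h0 : Module.finrank k (Coh.HH X (Coh.structureModule X) 0) = 1)
    (K₁ : Type u) [Field K₁] [Algebra k K₁] [FiniteDimensional k K₁] [Algebra.IsSeparable k K₁]
    (x : Spec (CommRingCat.of K₁) ⟶ X) (hx : x ≫ (X ↘ Spec (CommRingCat.of k)) = extMap k K₁)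
    (n : ℕ) (hn : IsUnit (n : k)) :
    ∃ (k' : Type u) (_ : Field k') (_ : Algebra k k'), FiniteDimensional k k' ∧ Algebra.IsSeparable k k' ∧
      Module.finrank k k' ≤ Module.finrank k K₁ * (n ^ (2 * Curv2.genus k X)).factorial ∧
      (∃ y : Spec (CommRingCat.of k') ⟶ Curv2.bc k X k', y ≫ Curv2.bcSnd k X k' = 𝟙 _) ∧
      Nat.card (torsCl (Curv2.bc k X k') n) = n ^ (2 * Curv2.genus k X) := by
  haveI : GeometricallyConnected (X ↘ Spec (CommRingCat.of k)) := (S16754.result k X hdim).1.1 h0
  let fX := X ↘ Spec (CommRingCat.of k)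
  let X₁ := pullback fX (extMap k K₁)
  letI : X₁.Over (Spec (CommRingCat.of K₁)) := ⟨pullback.snd fX (extMap k K₁)⟩
  haveI : IsProper (X₁ ↘ Spec (CommRingCat.of K₁)) := inferInstanceAs (IsProper (pullback.snd fX (extMap k K₁)))
  haveI : Smooth (X₁ ↘ Spec (CommRingCat.of K₁)) := inferInstanceAs (Smooth (pullback.snd fX (extMap k K₁)))
  haveI : GeometricallyConnected (X₁ ↘ Spec (CommRingCat.of K₁)) :=
    inferInstanceAs (GeometricallyConnected (pullback.snd fX (extMap k K₁)))
  have hpb : IsPullback (pullback.fst fX (extMap k K₁)) (X₁ ↘ Spec (CommRingCat.of K₁)) fX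
      (Spec.map (CommRingCat.ofHom (algebraMap k K₁))) := IsPullback.of_hasPullback fX (extMap k K₁)
  haveI := CurveBC.isIntegral_of_h0 k X h0
  have hdim₁ : topologicalKrullDim X₁ = 1 := CurveBC.topologicalKrullDim_eq k K₁ (pullback.fst fX (extMap k K₁)) hpb hdim
  haveI : QuasiSeparatedSpace X := quasiSeparatedSpace_of_quasiSeparated fX
  haveI := QuasiCompact.compactSpace_of_compactSpace fX
  have hgen : Curv2.genus K₁ X₁ = Curv2.genus k X := CurveBC.genus_eq k K₁ (pullback.fst fX (extMap k K₁)) hpb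
  let σ : Spec (CommRingCat.of K₁) ⟶ X₁ := pullback.lift x (𝟙 _) (by rw [Category.id_comp]; exact hx)
  have hσ : σ ≫ (X₁ ↘ Spec (CommRingCat.of K₁)) = 𝟙 _ := pullback.lift_snd _ _ _
  obtain ⟨J, _, _, _, _, _, hJg, hJc⟩ := exists_jac_ext K₁ X₁ hdim₁ σ hσ
  have hn₁ : IsUnit (n : K₁) := by
    have := hn.map (algebraMap k K₁)
    rwa [map_natCast] at this
  have hn0 : 0 < n := Nat.pos_of_ne_zero (by rintro rfl; simp at hn)
  obtain ⟨L, _, _, _, _, hLd, hLc⟩ := exists_split_points J hJg hn₁
  letI : Algebra k L := ((algebraMap K₁ L).comp (algebraMap k K₁)).toAlgebra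
  haveI : IsScalarTower k K₁ L := IsScalarTower.of_algebraMap_eq fun _ => rfl
  refine ⟨L, inferInstance, inferInstance, FiniteDimensional.trans k K₁ L, Algebra.IsSeparable.trans k K₁ L, ?_, ?_, ?_⟩
  · rw [← Module.finrank_mul_finrank k K₁ L, ← hgen]
    exact Nat.mul_le_mul le_rfl hLd
  · have hc : extMap k L = extMap K₁ L ≫ extMap k K₁ := by
      rw [extMap, extMap, extMap, ← Spec.map_comp]; rfl
    exact ⟨pullback.lift (extMap K₁ L ≫ x) (𝟙 _) (by rw [Category.assoc, hx, Category.id_comp, ← hc]),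
      pullback.lift_snd _ _ _⟩
  · have hc : extMap k L = extMap K₁ L ≫ extMap k K₁ := by
      rw [extMap, extMap, extMap, ← Spec.map_comp]; rfl
    rw [← hgen, ← hLc, ← hJc n hn0 L]
    refine Nat.card_congr (torsClIso (?_ : pullback (X₁ ↘ Spec (CommRingCat.of K₁)) (extMap K₁ L) ≅ Curv2.bc k X L) n)
    exact pullbackLeftPullbackSndIso fX (extMap k K₁) (extMap K₁ L) ≪≫ pullback.congrHom rfl hc.symm

end Groth.Agent.PicTors
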