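import Groth.Agent.S3239
import Groth.Agent.PicRep.Jac
import Groth.Agent.JacVarLib.Points
import Groth.Agent.TorsPtsLib.Main
import Groth.Agent.GeomField.Connected
import Groth.Agent.GeomField.Fibre

/-!
# Torsion classes of a curve over an algebraically closed field are torsion points of its Jacobian
-/

set_option autoImplicit false
set_option maxHeartbeats 1600000
set_option linter.style.haveILetI false
set_option linter.unusedSectionVars false
set_option backward.isDefEq.respectTransparency false
set_option backward.isDefEq.respectTransparency.types false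

universe u

open CategoryTheory CategoryTheory.Limits AlgebraicGeometry TopologicalSpace Opposite
  MonoidalCategory CartesianMonoidalCategory

noncomputable section

namespace Groth.Agent.PicTors

open Groth.Agent Groth.Agent.H23 Groth.Agent.H23.PicMul
open Groth.Agent.JacVarLib (InvU Pc pullPc pullPc_val pullPc_comp ext_val out cl_out isInvertible_out)
open scoped Groth.Agent.H23.PicMul MonObj

variable (k : Type u) [Field k] (X : Scheme.{u}) [X.Over (Spec (CommRingCat.of k))]

/-- The classes whose `n`-th power is trivial. -/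
abbrev torsCl (n : ℕ) : Type (u + 1) :=
  {c : PicF.Cl X // ∃ M : X.Modules, PicF.cl M = c ∧ PicF.IsInvertible M ∧
    Nonempty (CohB1.tensorPow M n ≅ Coh.structureModule X)}

/-- `torsCl` is the torsion of the group of invertible classes. -/
def torsClEquiv (n : ℕ) : torsCl X n ≃ {v : Pc X // v ^ n = 1} where
  toFun c := ⟨PicRep.toPc c.1 (by obtain ⟨M, h, hM, -⟩ := c.2; exact ⟨M, h, hM⟩), by
    obtain ⟨M, h, -, ⟨e⟩⟩ := c.2
    refine ext_val ?_
    rw [SubmonoidClass.coe_pow, Units.val_pow_eq_pow_val, PicRep.toPc_val, ← h, ← cl_tensorPow]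
    exact cl_eq_iff.2 ⟨e⟩⟩
  invFun v := ⟨v.1.1.val, out v.1, cl_out v.1, isInvertible_out v.1, cl_eq_iff.1 (by
    rw [cl_tensorPow, cl_out, ← Units.val_pow_eq_pow_val, ← SubmonoidClass.coe_pow, v.2]
    rfl)⟩
  left_inv c := Subtype.ext (PicRep.toPc_val c.1 (by obtain ⟨M, h, hM, -⟩ := c.2; exact ⟨M, h, hM⟩))
  right_inv v := Subtype.ext (ext_val (PicRep.toPc_val v.1.1.val v.1.2))

theorem geomConn [IsAlgClosed k] [IsIntegral X] [IsProper (X ↘ Spec (CommRingCat.of k))] :
    GeometricallyConnected (X ↘ Spec (CommRingCat.of k)) := by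
  refine GeomField.geometricallyConnected_of_separableClosure (k := k) (X := X) ?_
  haveI : ConnectedSpace X := inferInstance
  exact GeomField.connectedSpace_bc_of_isSepClosed (SeparableClosure k)

theorem geomIrred [IsAlgClosed k] [IsIntegral X] [IsProper (X ↘ Spec (CommRingCat.of k))] :
    GeometricallyIrreducible (X ↘ Spec (CommRingCat.of k)) := by
  exact GeomField.geometricallyIrreducible_of_isSepClosed (k := k) (X := X)

variable [IsAlgClosed k] [IsIntegral X] [IsProper (X ↘ Spec (CommRingCat.of k))]
  [Smooth (X ↘ Spec (CommRingCat.of k))] (hdim : topologicalKrullDim X = 1)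

local notation "fX" => (X ↘ Spec (CommRingCat.of k))
local notation "pt₀" => (𝟙_ (Over (Spec (CommRingCat.of k))))

include hdim in
/-- An abelian variety of dimension the genus whose torsion points count torsion classes. -/
theorem exists_jac : ∃ (J : Over (Spec (CommRingCat.of k))) (_ : GrpObj J) (_ : IsCommMonObj J)
    (_ : IsProper J.hom) (_ : Smooth J.hom) (_ : GeometricallyConnected J.hom),
      topologicalKrullDim ↥J.left = Curv2.genus k X ∧
      ∀ n : ℕ, 0 < n → Nat.card (torsCl X n) = Nat.card (AbDual.torsPts J n pt₀) := by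
  haveI : GeometricallyConnected fX := geomConn k X
  haveI : GeometricallyIrreducible fX := geomIrred k X
  haveI := PicRep.smoothOfRelativeDimension_one k X hdim
  haveI : JacobsonSpace X := LocallyOfFiniteType.jacobsonSpace fX
  obtain ⟨x, -, hx⟩ := nonempty_inter_closedPoints (X := X) (Z := Set.univ) ⟨genericPoint X, trivial⟩
    isOpen_univ.isLocallyClosed
  let σ := pointOfClosedPoint fX x hx
  have hσ : σ ≫ fX = 𝟙 _ := pointOfClosedPoint_comp fX x hx
  obtain ⟨J, ⟨r⟩, hp, hs, hc, hi⟩ := PicRep.exists_jacobian (X := X) σ hσ hdim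
  letI := PicRep.commGrpObj r
  let U := PicRep.univOfRep r
  refine ⟨J, inferInstance, inferInstance, hp, hs, hc, ?_, fun n hn => ?_⟩
  · haveI := hs
    exact S3239.result k X fX hdim σ hσ rfl J U.ξ U.zero U.univ
  · let e : (pt₀ ⟶ J) ≃* ↥(PicRep.RZ fX σ hσ pt₀) :=
      ((yonedaGrpObjIsoOfRepresentableBy J (PicRep.grp0 fX σ hσ ⋙ forget₂ CommGrpCat GrpCat) r).app
        (op pt₀)).groupIsoToMulEquiv.trans (Shrink.mulEquiv (α := PicRep.RZ fX σ hσ pt₀))
    let q : Pc X ≃* Pc (PicF.XT fX pt₀) :=
      { toFun := pullPc (JacVarLib.q0 k)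
        invFun := pullPc (JacVarLib.i0 k)
        left_inv := fun v => by rw [pullPc_comp, JacVarLib.i0_q0, PicRep.pullPc_id]
        right_inv := fun v => by rw [pullPc_comp, JacVarLib.q0_i0, PicRep.pullPc_id]
        map_mul' := map_mul _ }
    have hmem : ∀ v : Pc (PicF.XT fX pt₀), v ^ n = 1 → v ∈ PicRep.RZ fX σ hσ pt₀ := by
      intro v hv
      refine ⟨?_, PicRep.mem_PZ.2 fun t => ?_⟩
      · have h1 : ∀ w : Pc (pt₀).left, w = 1 := fun w => ext_val (by
          rw [← cl_out w]
          exact AVDualCx.trivial_of_isLocalRing (C := k) (isInvertible_out w))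
        exact h1 _
      · have h : ∀ m : ℕ, DegData.deg fX pt₀ (v ^ m).1.val t = m * DegData.deg fX pt₀ v.1.val t := by
          intro m
          induction m with
          | zero =>
            rw [pow_zero, Nat.cast_zero, zero_mul]
            exact PicRep.mem_PZ.1 (one_mem _) t
          | succ m ih => rw [pow_succ, PicRep.deg_mul', ih]; push_cast; ring
        have h1 := h n
        rw [hv, show DegData.deg fX pt₀ (1 : Pc (PicF.XT fX pt₀)).1.val t = 0 from PicRep.mem_PZ.1 (one_mem _) t] at h1
        rcases mul_eq_zero.1 h1.symm with h2 | h2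
        · omega
        · exact h2
    rw [Nat.card_congr (torsClEquiv X n)]
    refine Nat.card_congr ?_
    refine Equiv.trans ?_ (Equiv.trans (Equiv.subtypeEquiv (p := fun a => a ^ n = 1) (q := fun b => b ^ n = 1) e.toEquiv fun a => ?_).symm
      (Equiv.subtypeEquivRight fun a => (AbDual.mem_torsPts J a).symm))
    · exact
      { toFun := fun v => ⟨⟨q v.1, hmem _ (by rw [← map_pow, v.2, map_one])⟩,
          Subtype.ext ((map_pow q v.1 n).symm.trans (by rw [v.2, map_one]; rfl))⟩
        invFun := fun a => ⟨q.symm a.1.1, by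
          rw [← map_pow, ← SubmonoidClass.coe_pow, a.2, OneMemClass.coe_one, map_one]⟩
        left_inv := fun v => Subtype.ext (q.symm_apply_apply v.1)
        right_inv := fun a => Subtype.ext (Subtype.ext (q.apply_symm_apply a.1.1)) }
    · show a ^ n = 1 ↔ e a ^ n = 1
      rw [← map_pow, EmbeddingLike.map_eq_one_iff]

end Groth.Agent.PicTors
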