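import Mathlib.RingTheory.Etale.Field
import Mathlib.RingTheory.Unramified.Field
import Mathlib.FieldTheory.Galois.Basic
import Mathlib.FieldTheory.IsAlgClosed.AlgebraicClosure
import Mathlib.FieldTheory.Normal.Closure
import Mathlib.FieldTheory.SeparableClosure
import Mathlib.RingTheory.IntegralClosure.IntegralRestrict

/-!
# A splitting field of a finite étale algebra
-/

set_option autoImplicit false
set_option linter.style.haveILetI false

universe u

open IntermediateField

namespace Groth.Agent.PicTors

variable (k : Type u) [Field k] (B : Type u) [CommRing B] [Algebra k B] [Module.Finite k B] [Algebra.Etale k B]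

local notation "Ω" => AlgebraicClosure k

set_option maxHeartbeats 1000000 in
theorem isSeparable_algHom (φ : B →ₐ[k] Ω) (b : B) : IsSeparable k (φ b) := by
  haveI : Module.Finite k φ.range := Module.Finite.of_surjective φ.rangeRestrict.toLinearMap φ.rangeRestrict_surjective
  haveI : Algebra.FormallyUnramified k φ.range :=
    Algebra.FormallyUnramified.of_surjective φ.rangeRestrict φ.rangeRestrict_surjective
  have hf : IsField φ.range := isField_of_isIntegral_of_isField' (R := k) (S := φ.range) (Field.toIsField k)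
  letI := hf.toField
  have hs : Algebra.IsSeparable k φ.range := Algebra.FormallyUnramified.isSeparable k φ.range
  exact Subalgebra.isSeparable_iff.1 hs (φ b) ⟨b, rfl⟩

/-- A finite étale algebra is split by a finite separable extension of degree at most `(#points)!`. -/
theorem exists_split : ∃ F : IntermediateField k Ω, FiniteDimensional k F ∧ Algebra.IsSeparable k F ∧
    Module.finrank k F ≤ (Nat.card (B →ₐ[k] Ω)).factorial ∧ ∀ (φ : B →ₐ[k] Ω) (b : B), φ b ∈ F := by
  classical
  let S : Set Ω := ⋃ φ : B →ₐ[k] Ω, Set.range φ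
  let v := Module.finBasis k B
  let S₀ : Set Ω := Set.range fun p : (B →ₐ[k] Ω) × Fin (Module.finrank k B) => p.1 (v p.2)
  let F := adjoin k S₀
  have hmem : ∀ (φ : B →ₐ[k] Ω) (b : B), φ b ∈ F := fun φ b => by
    rw [← v.sum_repr b, map_sum]
    refine sum_mem fun i _ => ?_
    rw [map_smul]
    exact IntermediateField.smul_mem _ (subset_adjoin k S₀ ⟨(φ, i), rfl⟩)
  haveI : Finite (B →ₐ[k] Ω) := inferInstance
  haveI : FiniteDimensional k F := finiteDimensional_adjoin fun x _ => Algebra.IsIntegral.isIntegral x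
  haveI : Algebra.IsSeparable k F := (isSeparable_adjoin_iff_isSeparable k Ω).2 fun x ⟨p, hp⟩ => hp ▸ isSeparable_algHom k B p.1 _
  have hmap : ∀ σ : Ω →ₐ[k] Ω, F.map σ ≤ F := fun σ => by
    rw [adjoin_map]
    refine adjoin_le_iff.2 ?_
    rintro _ ⟨_, ⟨p, rfl⟩, rfl⟩
    exact hmem (σ.comp p.1) (v p.2)
  haveI : Normal k F := normal_iff_forall_map_le.2 hmap
  haveI : IsGalois k F := IsGalois.mk
  let e : (B →ₐ[k] F) ≃ (B →ₐ[k] Ω) :=
    { toFun := fun φ => F.val.comp φ
      invFun := fun φ => φ.codRestrict F.toSubalgebra (hmem φ)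
      left_inv := fun φ => AlgHom.ext fun b => Subtype.ext rfl
      right_inv := fun φ => AlgHom.ext fun b => rfl }
  haveI : Finite (B →ₐ[k] F) := Finite.of_equiv _ e.symm
  haveI := Fintype.ofFinite (B →ₐ[k] F)
  let act : (F ≃ₐ[k] F) → Equiv.Perm (B →ₐ[k] F) := fun σ =>
    { toFun := fun φ => σ.toAlgHom.comp φ
      invFun := fun φ => σ.symm.toAlgHom.comp φ
      left_inv := fun φ => AlgHom.ext fun b => σ.symm_apply_apply _
      right_inv := fun φ => AlgHom.ext fun b => σ.apply_symm_apply _ }
  have hact : Function.Injective act := fun σ τ h => by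
    refine AlgEquiv.ext fun ⟨x, hx⟩ => ?_
    induction hx using adjoin_induction with
    | mem x hx =>
      obtain ⟨p, rfl⟩ := hx
      exact congrArg (fun φ : B →ₐ[k] F => φ (v p.2)) (congrArg (fun π : Equiv.Perm _ => π (e.symm p.1)) h)
    | algebraMap x => exact (σ.commutes x).trans (τ.commutes x).symm
    | add x y hx hy h1 h2 =>
      exact (map_add σ (⟨x, hx⟩ : F) ⟨y, hy⟩).trans ((congrArg₂ (· + ·) h1 h2).trans (map_add τ _ _).symm)
    | inv x hx h1 => exact (map_inv₀ σ (⟨x, hx⟩ : F)).trans ((congrArg _ h1).trans (map_inv₀ τ _).symm)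
    | mul x y hx hy h1 h2 =>
      exact (map_mul σ (⟨x, hx⟩ : F) ⟨y, hy⟩).trans ((congrArg₂ (· * ·) h1 h2).trans (map_mul τ _ _).symm)
  refine ⟨F, inferInstance, inferInstance, ?_, hmem⟩
  rw [← IsGalois.card_aut_eq_finrank k F]
  refine (Nat.card_le_card_of_injective act hact).trans ?_
  rw [Nat.card_eq_fintype_card, Fintype.card_perm, ← Nat.card_eq_fintype_card, Nat.card_congr e]

end Groth.Agent.PicTors
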