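import Groth.Agent.PicTors.Main
import Groth.Agent.PicTors.Split
import Groth.Agent.TorsPtsLib.BC

/-!
# Torsion classes over extension fields and the field of definition of torsion points
-/

set_option autoImplicit false
set_option maxHeartbeats 1600000
set_option linter.style.haveILetI false
set_option linter.unusedSectionVars false
set_option backward.isDefEq.respectTransparency false
set_option backward.isDefEq.respectTransparency.types false

universe u

open CategoryTheory CategoryTheory.Limits AlgebraicGeometry TopologicalSpace Opposite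
  MonoidalCategory CartesianMonoidalCategory

noncomputable section

namespace Groth.Agent.PicTors

open Groth.Agent Groth.Agent.H23 Groth.Agent.H23.PicMul
open Groth.Agent.JacVarLib (InvU Pc pullPc pullPc_val pullPc_comp ext_val out cl_out isInvertible_out)
open scoped Groth.Agent.H23.PicMul MonObj

section Points

variable {k : Type u} [Field k]

/-- The structure map of a field extension. -/
abbrev extMap (k L : Type u) [Field k] [Field L] [Algebra k L] : Spec (CommRingCat.of L) ⟶ Spec (CommRingCat.of k) :=
  Spec.map (CommRingCat.ofHom (algebraMap k L))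

/-- Torsion points of an abelian variety are the points of a finite étale algebra. -/
theorem exists_torsAlg (A : Over (Spec (CommRingCat.of k))) [GrpObj A] [IsCommMonObj A] [IsProper A.hom]
    [Smooth A.hom] [GeometricallyIntegral A.hom] {g : ℕ} (hg : topologicalKrullDim ↥A.left = g) {d : ℕ}
    (hd : IsUnit (d : k)) :
    ∃ (C : Type u) (_ : CommRing C) (_ : Algebra k C), Module.Finite k C ∧ Algebra.Etale k C ∧
      ∀ (L : Type u) [Field L] [Algebra k L],
        Nonempty ((C →ₐ[k] L) ≃ AbDual.torsPts A d (Over.mk (extMap k L))) := by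
  have : GeometricallyReduced A.hom := Groth.Agent.H23.RigidGamma.geometricallyReduced_of_smooth A.hom
  haveI : GeometricallyIrreducible A.hom := inferInstance
  haveI : GeometricallyConnected A.hom := ⟨fun K _ y Z fst snd h => by
    haveI := GeometricallyIrreducible.geometrically_irreducibleSpace (f := A.hom) y fst snd h
    infer_instance⟩
  have hd0 : (d : ℤ) ≠ 0 := by
    intro h
    rw [Int.natCast_eq_zero.mp h, Nat.cast_zero] at hd
    exact not_isUnit_zero hd
  have hunit := TorsPtsLib.eq_of_ne_zero hd
  obtain ⟨hf, hfl, -⟩ := AVDegLib.zpow_props (A := A) (d : ℤ) hd0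
  have he := Groth.Agent.H23.MulEtale.etale_zpow (X := A) (d : ℤ) hunit
  simp only [zpow_natCast] at hf hfl he
  let q := Limits.pullback.fst (η[A]).left (𝟙 A ^ d : A ⟶ A).left
  have hqe : Etale q := MorphismProperty.of_isPullback (P := @Etale) (IsPullback.of_hasPullback (η[A]).left (𝟙 A ^ d : A ⟶ A).left).flip he
  have hqf : IsFinite q := MorphismProperty.of_isPullback (P := @IsFinite) (IsPullback.of_hasPullback (η[A]).left (𝟙 A ^ d : A ⟶ A).left).flip hf
  have : IsAffine (𝟙_ (Over (Spec (CommRingCat.of k)))).left := inferInstanceAs (IsAffine (Spec (CommRingCat.of k)))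
  have : IsAffine (Groth.Agent.H23.TorsRed.tors A d) := isAffine_of_isAffineHom q
  let N := Groth.Agent.H23.TorsRed.tors A d
  let C := Γ(N, ⊤)
  obtain ⟨φ, hφ⟩ := Spec.map_surjective (R := CommRingCat.of k) (S := CommRingCat.of C) (N.isoSpec.inv ≫ q)
  let : Algebra k C := φ.hom.toAlgebra
  have h1 : IsFinite (Spec.map φ) := by rw [hφ]; infer_instance
  have h2 : Etale (Spec.map φ) := by rw [hφ]; infer_instance
  have : Module.Finite k C := by rw [IsFinite.SpecMap_iff] at h1; exact h1
  have : Algebra.Etale k C := by rw [HasRingHomProperty.Spec_iff (P := @Etale)] at h2; exact h2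
  refine ⟨C, inferInstance, inferInstance, inferInstance, inferInstance, fun L _ _ => ⟨?_⟩⟩
  refine Equiv.trans ?_ (Groth.Agent.H23.TorsRed.ptsEquiv A d (Over.mk (extMap k L))).symm
  exact
    { toFun := fun χ => ⟨Spec.map (CommRingCat.ofHom χ.toRingHom) ≫ N.isoSpec.inv, by
        rw [Category.assoc, ← hφ, ← Spec.map_comp]
        exact congrArg Spec.map (CommRingCat.hom_ext (RingHom.ext fun r => χ.commutes r))⟩
      invFun := fun t =>
        { (Spec.preimage (t.1 ≫ N.isoSpec.hom)).hom with
          commutes' := fun r => by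
            have h : φ ≫ Spec.preimage (t.1 ≫ N.isoSpec.hom) = CommRingCat.ofHom (algebraMap k L) := by
              apply Spec.map_injective
              rw [Spec.map_comp, Spec.map_preimage, hφ, Category.assoc, Iso.hom_inv_id_assoc]
              exact t.2
            exact congrArg (fun ψ => ψ.hom r) h }
      left_inv := fun χ => by
        refine AlgHom.ext fun c => ?_
        show (Spec.preimage ((Spec.map (CommRingCat.ofHom χ.toRingHom) ≫ N.isoSpec.inv) ≫ N.isoSpec.hom)).hom c = χ c
        rw [Category.assoc, Iso.inv_hom_id, Category.comp_id, Spec.preimage_map]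
        rfl
      right_inv := fun t => by
        apply Subtype.ext
        show Spec.map (Spec.preimage (t.1 ≫ N.isoSpec.hom)) ≫ N.isoSpec.inv = t.1
        rw [Spec.map_preimage, Category.assoc, Iso.hom_inv_id, Category.comp_id] }

/-- The torsion points are all defined over a separable extension of bounded degree. -/
theorem exists_split_points (A : Over (Spec (CommRingCat.of k))) [GrpObj A] [IsCommMonObj A] [IsProper A.hom]
    [Smooth A.hom] [GeometricallyIntegral A.hom] {g : ℕ} (hg : topologicalKrullDim ↥A.left = g) {d : ℕ}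
    (hd : IsUnit (d : k)) :
    ∃ (L : Type u) (_ : Field L) (_ : Algebra k L), FiniteDimensional k L ∧ Algebra.IsSeparable k L ∧
      Module.finrank k L ≤ (d ^ (2 * g)).factorial ∧
      Nat.card (AbDual.torsPts A d (Over.mk (extMap k L))) = d ^ (2 * g) := by
  obtain ⟨C, _, _, _, _, hC⟩ := exists_torsAlg A hg hd
  let Ω := AlgebraicClosure k
  have hΩ : (d : Ω) ≠ 0 := by
    have := (hd.map (algebraMap k Ω)).ne_zero
    rwa [map_natCast] at this
  obtain ⟨eΩ⟩ := hC Ω
  have hcard : Nat.card (C →ₐ[k] Ω) = d ^ (2 * g) :=
    (Nat.card_congr eΩ).trans ((TorsPtsLib.geom_points (extMap k Ω) A hg).2.1 d hΩ)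
  obtain ⟨F, hFf, hFs, hFd, hF⟩ := exists_split k C
  obtain ⟨eF⟩ := hC F
  refine ⟨F, inferInstance, inferInstance, hFf, hFs, hcard ▸ hFd, (Nat.card_congr eF).symm.trans ?_⟩
  rw [← hcard]
  exact Nat.card_congr
    { toFun := fun φ => F.val.comp φ
      invFun := fun φ => φ.codRestrict F.toSubalgebra (hF φ)
      left_inv := fun φ => AlgHom.ext fun b => Subtype.ext rfl
      right_inv := fun φ => AlgHom.ext fun b => rfl }

end Points

section Classes

/-- Transport of torsion classes along an isomorphism. -/
def torsClIso {X Y : Scheme.{u}} (e : X ≅ Y) (n : ℕ) : torsCl Y n ≃ torsCl X n :=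
  ((torsClEquiv Y n).trans
    (show {v : Pc Y // v ^ n = 1} ≃ {v : Pc X // v ^ n = 1} from
    { toFun := fun v => ⟨pullPc e.hom v.1, by rw [← map_pow, v.2, map_one]⟩
      invFun := fun v => ⟨pullPc e.inv v.1, by rw [← map_pow, v.2, map_one]⟩
      left_inv := fun v => Subtype.ext (by
        show pullPc e.inv (pullPc e.hom v.1) = v.1
        rw [pullPc_comp, e.inv_hom_id, PicRep.pullPc_id])
      right_inv := fun v => Subtype.ext (by
        show pullPc e.hom (pullPc e.inv v.1) = v.1
        rw [pullPc_comp, e.hom_inv_id, PicRep.pullPc_id]) })).trans (torsClEquiv X n).symm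

variable (k : Type u) [Field k] (X : Scheme.{u}) [X.Over (Spec (CommRingCat.of k))]
  [IsProper (X ↘ Spec (CommRingCat.of k))] [Smooth (X ↘ Spec (CommRingCat.of k))]
  [GeometricallyConnected (X ↘ Spec (CommRingCat.of k))]

local notation "fX" => (X ↘ Spec (CommRingCat.of k))

/-- Curves with a rational point: an abelian variety whose points count torsion classes over all extensions. -/
theorem exists_jac_ext (hdim : topologicalKrullDim X = 1) (σ : Spec (CommRingCat.of k) ⟶ X) (hσ : σ ≫ fX = 𝟙 _) :
    ∃ (J : Over (Spec (CommRingCat.of k))) (_ : GrpObj J) (_ : IsCommMonObj J)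
    (_ : IsProper J.hom) (_ : Smooth J.hom) (_ : GeometricallyIntegral J.hom),
      topologicalKrullDim ↥J.left = Curv2.genus k X ∧
      ∀ (n : ℕ), 0 < n → ∀ (L : Type u) [Field L] [Algebra k L],
        Nat.card (torsCl (pullback fX (extMap k L)) n) = Nat.card (AbDual.torsPts J n (Over.mk (extMap k L))) := by
  haveI : SmoothOfRelativeDimension 1 fX := by
    haveI := CurveBC.isIntegral_of_h0 k X (CurveBC.finrank_h0_of_geometricallyConnected k X)
    exact PicRep.smoothOfRelativeDimension_one k X hdim
  obtain ⟨J, ⟨r⟩, hp, hs, hc, hi⟩ := PicRep.exists_jacobian (X := X) σ hσ hdim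
  letI := PicRep.commGrpObj r
  refine ⟨J, inferInstance, inferInstance, hp, hs, hi, ?_, fun n hn L _ _ => ?_⟩
  · haveI := hs
    haveI := CurveBC.isIntegral_of_h0 k X (CurveBC.finrank_h0_of_geometricallyConnected k X)
    haveI : Subsingleton ↥(Spec (CommRingCat.of k)) := inferInstanceAs (Subsingleton (PrimeSpectrum k))
    have hfib : ∀ (Y : Scheme.{u}) (g : Y ⟶ Spec (CommRingCat.of k)) (s : Spec (CommRingCat.of k)),
        topologicalKrullDim ↥(g.fiber s) = topologicalKrullDim ↥Y := fun Y g s =>
      ((g.fiberHomeo s).trans ((Homeomorph.setCongr (show g ⁻¹' {s} = Set.univ from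
        Set.eq_univ_of_forall fun y => Subsingleton.elim (g y) s)).trans (Homeomorph.Set.univ _))).isHomeomorph.topologicalKrullDim_eq
    let s : Spec (CommRingCat.of k) := IsLocalRing.closedPoint k
    have key := S12407.result fX (fun t => (hfib _ _ t).trans hdim) J (PicRep.phi0 r) (PicRep.isRelPicZero r) s
    rw [hfib] at key
    rw [key]
    refine congrArg (fun a : ℕ => (a : WithBot ℕ∞)) ?_
    haveI : IsNoetherian X := CurveCohLib.isNoetherian_of_proper (k := k) (X := X)
    exact PicRep.betti_specField (X := X) QCoh.isQCoh_structureModule s 1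
  · let T : Over (Spec (CommRingCat.of k)) := Over.mk (extMap k L)
    let e : (T ⟶ J) ≃* ↥(PicRep.RZ fX σ hσ T) :=
      ((yonedaGrpObjIsoOfRepresentableBy J (PicRep.grp0 fX σ hσ ⋙ forget₂ CommGrpCat GrpCat) r).app
        (op T)).groupIsoToMulEquiv.trans (Shrink.mulEquiv (α := PicRep.RZ fX σ hσ T))
    have hmem : ∀ v : Pc (PicF.XT fX T), v ^ n = 1 → v ∈ PicRep.RZ fX σ hσ T := by
      intro v hv
      refine ⟨?_, PicRep.mem_PZ.2 fun t => ?_⟩
      · have h1 : ∀ w : Pc T.left, w = 1 := fun w => ext_val (by
          rw [← cl_out w]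
          exact AVDualCx.trivial_of_isLocalRing (C := L) (isInvertible_out w))
        exact h1 _
      · have h : ∀ m : ℕ, DegData.deg fX T (v ^ m).1.val t = m * DegData.deg fX T v.1.val t := by
          intro m
          induction m with
          | zero =>
            rw [pow_zero, Nat.cast_zero, zero_mul]
            exact PicRep.mem_PZ.1 (one_mem _) t
          | succ m ih => rw [pow_succ, PicRep.deg_mul', ih]; push_cast; ring
        have h1 := h n
        rw [hv, show DegData.deg fX T (1 : Pc (PicF.XT fX T)).1.val t = 0 from PicRep.mem_PZ.1 (one_mem _) t] at h1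
        rcases mul_eq_zero.1 h1.symm with h2 | h2
        · omega
        · exact h2
    refine (Nat.card_congr (torsClEquiv (PicF.XT fX T) n)).trans (Nat.card_congr ?_)
    refine Equiv.trans ?_ (Equiv.trans (Equiv.subtypeEquiv (p := fun a => a ^ n = 1) (q := fun b => b ^ n = 1) e.toEquiv fun a => ?_).symm
      (Equiv.subtypeEquivRight fun a => (AbDual.mem_torsPts J a).symm))
    · exact
      { toFun := fun v => ⟨⟨v.1, hmem _ v.2⟩, Subtype.ext v.2⟩
        invFun := fun a => ⟨a.1.1, congrArg Subtype.val a.2⟩
        left_inv := fun v => rfl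
        right_inv := fun a => rfl }
    · show a ^ n = 1 ↔ e a ^ n = 1
      rw [← map_pow, EmbeddingLike.map_eq_one_iff]

end Classes

end Groth.Agent.PicTors
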